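import Mathlib.Algebra.Category.Grp.Abelian
import Mathlib.Algebra.Homology.HomologicalComplex
import Mathlib.Algebra.Homology.ShortComplex.Ab
import Mathlib.Algebra.Homology.ShortComplex.HomologicalComplex
import Mathlib.CategoryTheory.Functor.OfSequence
import Groth.Prelude.Def_CohCx

/-!
# Cohomology of the limit of a tower of complexes of abelian groups
-/

universe u v

open CategoryTheory CategoryTheory.Limits

noncomputable section

set_option autoImplicit false
set_option maxHeartbeats 400000

namespace Groth.Agent.LimCx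

section Class

variable (K : CochainComplex AddCommGrpCat.{u} ℤ) (m : ℤ)

theorem exists_cycle_of (z : K.X m) (hz : K.d m (m + 1) z = 0) : ∃ c, K.iCycles m c = z := by
  let S := ShortComplex.mk (K.iCycles m) (K.d m (m + 1)) (K.iCycles_d m (m + 1))
  have hS : S.Exact := ShortComplex.exact_of_f_is_kernel _ (K.cyclesIsKernel m (m + 1) (by simp))
  exact (ShortComplex.ab_exact_iff _).1 hS z hz

theorem iCycles_injective : Function.Injective (K.iCycles m) :=
  (AddCommGrpCat.mono_iff_injective _).1 inferInstance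

/-- The class of a cocycle. -/
def cls (z : K.X m) (hz : K.d m (m + 1) z = 0) : K.homology m :=
  K.homologyπ m (exists_cycle_of K m z hz).choose

theorem cls_eq (z : K.X m) (hz : K.d m (m + 1) z = 0) (c : K.cycles m) (hc : K.iCycles m c = z) :
    cls K m z hz = K.homologyπ m c :=
  congrArg _ (iCycles_injective K m ((exists_cycle_of K m z hz).choose_spec.trans hc.symm))

theorem cls_surjective (h : K.homology m) : ∃ (z : K.X m) (hz : K.d m (m + 1) z = 0), cls K m z hz = h := by
  obtain ⟨c, rfl⟩ := (AddCommGrpCat.epi_iff_surjective (K.homologyπ m)).1 inferInstance h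
  exact ⟨_, ConcreteCategory.congr_hom (K.iCycles_d m (m + 1)) c, cls_eq K m _ _ c rfl⟩

theorem d_d_apply (i j k : ℤ) (w : K.X i) : K.d j k (K.d i j w) = 0 :=
  ConcreteCategory.congr_hom (K.d_comp_d i j k) w

theorem cls_sub (z z' : K.X m) (hz : K.d m (m + 1) z = 0) (hz' : K.d m (m + 1) z' = 0)
    (h : K.d m (m + 1) (z - z') = 0) : cls K m (z - z') h = cls K m z hz - cls K m z' hz' := by
  obtain ⟨c, rfl⟩ := exists_cycle_of K m z hz
  obtain ⟨c', rfl⟩ := exists_cycle_of K m z' hz'
  rw [cls_eq K m _ hz c rfl, cls_eq K m _ hz' c' rfl, cls_eq K m _ h (c - c') (map_sub _ _ _), map_sub]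

theorem cls_eq_zero_iff (z : K.X m) (hz : K.d m (m + 1) z = 0) :
    cls K m z hz = 0 ↔ ∃ w : K.X (m - 1), K.d (m - 1) m w = z := by
  let S := ShortComplex.mk (K.toCycles (m - 1) m) (K.homologyπ m) (K.toCycles_comp_homologyπ (m - 1) m)
  have hS : S.Exact := ShortComplex.exact_of_g_is_cokernel _ (K.homologyIsCokernel (m - 1) m (by simp))
  obtain ⟨c, rfl⟩ := exists_cycle_of K m z hz
  rw [cls_eq K m _ hz c rfl]
  constructor
  · intro h
    obtain ⟨w, hw⟩ := (ShortComplex.ab_exact_iff _).1 hS c h
    refine ⟨w, ?_⟩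
    rw [← hw]
    exact (ConcreteCategory.congr_hom (K.toCycles_i (m - 1) m) w).symm
  · rintro ⟨w, hw⟩
    have : K.toCycles (m - 1) m w = c :=
      iCycles_injective K m ((ConcreteCategory.congr_hom (K.toCycles_i (m - 1) m) w).trans hw)
    rw [← this]
    exact ConcreteCategory.congr_hom (K.toCycles_comp_homologyπ (m - 1) m) w

variable {K m} {L : CochainComplex AddCommGrpCat.{u} ℤ}

theorem comm_apply (φ : K ⟶ L) (i j : ℤ) (x : K.X i) : L.d i j (φ.f i x) = φ.f j (K.d i j x) :=
  ConcreteCategory.congr_hom (φ.comm i j) x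

theorem map_cls (φ : K ⟶ L) (z : K.X m) (hz : K.d m (m + 1) z = 0)
    (hz' : L.d m (m + 1) (φ.f m z) = 0) :
    HomologicalComplex.homologyMap φ m (cls K m z hz) = cls L m (φ.f m z) hz' := by
  obtain ⟨c, rfl⟩ := exists_cycle_of K m z hz
  rw [cls_eq K m _ hz c rfl, cls_eq L m _ hz' (HomologicalComplex.cyclesMap φ m c)
    (ConcreteCategory.congr_hom (HomologicalComplex.cyclesMap_i φ m) c)]
  exact ConcreteCategory.congr_hom (HomologicalComplex.homologyπ_naturality φ m) c

theorem map_cycle (φ : K ⟶ L) {z : K.X m} (hz : K.d m (m + 1) z = 0) :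
    L.d m (m + 1) (φ.f m z) = 0 := by
  rw [comm_apply, hz, map_zero]

end Class

section Tower

variable {A : ℕ → Type u} [∀ n, AddCommGroup (A n)] (t : ∀ n, A (n + 1) →+ A n)

/-- Compatibility from some index on can be improved to compatibility everywhere. -/
theorem exists_compatible : ∀ (N : ℕ) (x : ∀ n, A n), (∀ n, N ≤ n → t n (x (n + 1)) = x n) →
    ∃ x' : ∀ n, A n, (∀ n, t n (x' (n + 1)) = x' n) ∧ ∀ n, N ≤ n → x' n = x n
  | 0, x, hx => ⟨x, fun n => hx n (Nat.zero_le n), fun _ _ => rfl⟩
  | N + 1, x, hx => by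
    obtain ⟨x', h₁, h₂⟩ := exists_compatible N (Function.update x N (t N (x (N + 1)))) fun n hn => by
      rcases eq_or_lt_of_le hn with rfl | hlt
      · rw [Function.update_self, Function.update_of_ne (by omega)]
      · rw [Function.update_of_ne (by omega), Function.update_of_ne (by omega)]
        exact hx n hlt
    exact ⟨x', h₁, fun n hn => (h₂ n (by omega)).trans (Function.update_of_ne (by omega) _ _)⟩

theorem exists_family (N : ℕ) (y : ∀ k, A (N + k)) : ∃ x : ∀ n, A n, ∀ k, x (N + k) = y k := by
  classical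
  refine ⟨fun n => if h : ∃ k, N + k = n then h.choose_spec ▸ y h.choose else 0, fun k => ?_⟩
  have key : ∀ (j : ℕ) (e : N + j = N + k), e ▸ y j = y k := fun j e => by
    have hj : j = k := by omega
    subst hj
    rfl
  have h : ∃ j, N + j = N + k := ⟨k, rfl⟩
  beta_reduce
  rw [dif_pos h]
  exact key _ _

end Tower

variable {L : CochainComplex AddCommGrpCat.{u} ℤ} {K : ℕ → CochainComplex AddCommGrpCat.{u} ℤ}
  (p : ∀ n, L ⟶ K n) (t : ∀ n, K (n + 1) ⟶ K n)

/-- `L` is termwise the limit of the tower. -/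
structure IsTermwiseLimit : Prop where
  comp : ∀ n, p (n + 1) ≫ t n = p n
  ext : ∀ (j : ℤ) (a b : L.X j), (∀ n, (p n).f j a = (p n).f j b) → a = b
  lift : ∀ (j : ℤ) (x : ∀ n, (K n).X j), (∀ n, (t n).f j (x (n + 1)) = x n) →
    ∃ a : L.X j, ∀ n, (p n).f j a = x n

variable {p t}

theorem IsTermwiseLimit.comp_apply (h : IsTermwiseLimit p t) (n : ℕ) (j : ℤ) (a : L.X j) :
    (t n).f j ((p (n + 1)).f j a) = (p n).f j a :=
  ConcreteCategory.congr_hom (congrArg (fun φ => φ.f j) (h.comp n)) a

theorem homologyMap_transition_succ (m : ℤ) (n k : ℕ) (g : (K (n + (k + 1))).homology m) :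
    HomologicalComplex.homologyMap (CohCx.transition K t n (k + 1)) m g =
      HomologicalComplex.homologyMap (CohCx.transition K t n k) m
        (HomologicalComplex.homologyMap (t (n + k)) m g) :=
  ConcreteCategory.congr_hom (HomologicalComplex.homologyMap_comp (t (n + k)) (CohCx.transition K t n k) m) g

theorem bijective_homologyMap (h : IsTermwiseLimit p t) (m : ℤ) (n₀ : ℕ)
    (ha : ∀ j : ℤ, (j = m - 2 ∨ j = m - 1) →
      CohCx.LimOneIsZero (fun n => (K n).X j) (fun n => ((t n).f j).hom))
    (hb : CohCx.LimOneIsZero (fun n => (K n).homology (m - 1))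
      (fun n => (HomologicalComplex.homologyMap (t n) (m - 1)).hom))
    (hc : ∀ k : ℕ, Function.Bijective (HomologicalComplex.homologyMap (CohCx.transition K t n₀ k) m)) :
    Function.Bijective (HomologicalComplex.homologyMap (p n₀) m) := by
  constructor
  · rw [injective_iff_map_eq_zero]
    intro x hx
    obtain ⟨l, hl, rfl⟩ := cls_surjective L m x
    rw [cls_eq_zero_iff]
    -- all the images of the class vanish
    have hz : ∀ n, cls (K n) m ((p n).f m l) (map_cycle (p n) hl) = 0 := by
      have hdown : ∀ n, HomologicalComplex.homologyMap (t n) m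
          (cls (K (n + 1)) m ((p (n + 1)).f m l) (map_cycle (p (n + 1)) hl)) =
          cls (K n) m ((p n).f m l) (map_cycle (p n) hl) := fun n => by
        rw [map_cls (t n) _ _ (map_cycle (t n) (map_cycle (p (n + 1)) hl))]
        congr 1
        exact h.comp_apply n m l
      have htail : ∀ k, cls (K (n₀ + k)) m ((p (n₀ + k)).f m l) (map_cycle (p (n₀ + k)) hl) = 0 := by
        intro k
        refine (hc k).1 (Eq.trans ?_ (map_zero _).symm)
        rw [← hx, map_cls (p n₀) l hl (map_cycle (p n₀) hl)]
        clear hx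
        induction k with
        | zero =>
          show HomologicalComplex.homologyMap (𝟙 (K n₀)) m _ = _
          rw [HomologicalComplex.homologyMap_id]
          rfl
        | succ k ih =>
          rw [homologyMap_transition_succ m n₀ k]
          exact (congrArg _ (hdown (n₀ + k))).trans ih
      intro n
      rcases Nat.lt_or_ge n n₀ with hn | hn
      · induction hd : n₀ - n generalizing n with
        | zero => omega
        | succ d ih =>
          rw [← hdown n]
          have : cls (K (n + 1)) m ((p (n + 1)).f m l) (map_cycle (p (n + 1)) hl) = 0 := by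
            rcases Nat.lt_or_ge (n + 1) n₀ with hn' | hn'
            · exact ih (n + 1) hn' (by omega)
            · obtain ⟨k, hk⟩ := Nat.exists_eq_add_of_le hn'
              rw [hk]; exact htail k
          rw [this, map_zero]
      · obtain ⟨k, rfl⟩ := Nat.exists_eq_add_of_le hn
        exact htail k
    choose w hw using fun n => (cls_eq_zero_iff (K n) m _ _).1 (hz n)
    -- correct the primitives
    have hu : ∀ n, (K n).d (m - 1) (m - 1 + 1) (w n - (t n).f (m - 1) (w (n + 1))) = 0 := fun n => by
      rw [sub_add_cancel, map_sub, comm_apply, hw, hw, h.comp_apply, sub_self]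
    obtain ⟨c, hc'⟩ := hb fun n => cls (K n) (m - 1) _ (hu n)
    choose v hv hvc using fun n => cls_surjective (K n) (m - 1) (c n)
    have hv' : ∀ n, (K n).d (m - 1) m (v n) = 0 := fun n => by
      have := hv n; rwa [sub_add_cancel] at this
    have hu' : ∀ n, (K n).d (m - 1) (m - 1 + 1) (v n - (t n).f (m - 1) (v (n + 1))) = 0 := fun n => by
      rw [map_sub, hv, comm_apply, hv, map_zero, sub_zero]
    have hd : ∀ n, (K n).d (m - 1) (m - 1 + 1)
        ((w n - (t n).f (m - 1) (w (n + 1))) - (v n - (t n).f (m - 1) (v (n + 1)))) = 0 := fun n => by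
      rw [map_sub, hu, hu', sub_zero]
    have hz' : ∀ n, ∃ e : (K n).X (m - 2), (K n).d (m - 2) (m - 1) e =
        (w n - (t n).f (m - 1) (w (n + 1))) - (v n - (t n).f (m - 1) (v (n + 1))) := fun n => by
      have h0 : cls (K n) (m - 1) _ (hd n) = 0 := by
        rw [cls_sub (K n) (m - 1) _ _ (hu n) (hu' n), cls_sub (K n) (m - 1) _ _ (hv n)
          (map_cycle (t n) (hv (n + 1))), ← map_cls (t n) _ (hv (n + 1)), hvc, hvc, sub_eq_zero]
        exact (congrFun hc' n).symm
      have h1 := (cls_eq_zero_iff (K n) (m - 1) _ (hd n)).1 h0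
      rwa [sub_sub, show (1 : ℤ) + 1 = 2 from rfl] at h1
    choose e he using hz'
    obtain ⟨f, hf⟩ := ha (m - 2) (Or.inl rfl) e
    let W : ∀ n, (K n).X (m - 1) := fun n => w n - v n - (K n).d (m - 2) (m - 1) (f n)
    obtain ⟨a, ha'⟩ := h.lift (m - 1) W fun n => by
      simp only [W, map_sub]
      rw [← comm_apply (t n) (m - 2) (m - 1) (f (n + 1))]
      have h2 : (K n).d (m - 2) (m - 1) (e n) =
          (K n).d (m - 2) (m - 1) (f n) - (K n).d (m - 2) (m - 1) ((t n).f (m - 2) (f (n + 1))) := by
        rw [← map_sub]; exact congrArg _ (congrFun hf n).symm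
      rw [he] at h2
      rw [← sub_eq_zero] at h2 ⊢
      rw [← neg_eq_zero, ← h2]
      abel
    refine ⟨a, h.ext m _ _ fun n => ?_⟩
    rw [← comm_apply, ha']
    simp only [W, map_sub, hw, hv', d_d_apply, sub_zero]
  · intro x₀
    -- compatible classes
    choose g hg using fun k => (hc k).2 x₀
    have hg' : ∀ k, HomologicalComplex.homologyMap (t (n₀ + k)) m (g (k + 1)) = g k := fun k =>
      (hc k).1 ((homologyMap_transition_succ m n₀ k (g (k + 1))).symm.trans ((hg (k + 1)).trans (hg k).symm))
    obtain ⟨y, hy⟩ := exists_family (A := fun n => (K n).homology m) n₀ g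
    obtain ⟨c, hc₁, hc₂⟩ := exists_compatible (fun n => (HomologicalComplex.homologyMap (t n) m).hom) n₀ y
      fun n hn => by
        obtain ⟨k, rfl⟩ := Nat.exists_eq_add_of_le hn
        rw [hy k]
        exact (congrArg _ (hy (k + 1))).trans (hg' k)
    have hc₀ : c n₀ = x₀ := by
      have h0 : g 0 = x₀ := by
        have := hg 0
        rw [show CohCx.transition K t n₀ 0 = 𝟙 _ from rfl, HomologicalComplex.homologyMap_id] at this
        exact this
      exact ((hc₂ n₀ le_rfl).trans (hy 0)).trans h0
    choose z hz hzc using fun n => cls_surjective (K n) m (c n)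
    have hd : ∀ n, (K n).d m (m + 1) (z n - (t n).f m (z (n + 1))) = 0 := fun n => by
      rw [map_sub, hz, map_cycle (t n) (hz (n + 1)), sub_zero]
    have he : ∀ n, ∃ e : (K n).X (m - 1), (K n).d (m - 1) m e = z n - (t n).f m (z (n + 1)) := fun n => by
      refine (cls_eq_zero_iff (K n) m _ (hd n)).1 ?_
      rw [cls_sub (K n) m _ _ (hz n) (map_cycle (t n) (hz (n + 1))), ← map_cls (t n) _ (hz (n + 1)),
        hzc, hzc, sub_eq_zero]
      exact (hc₁ n).symm
    choose e he using he
    obtain ⟨f, hf⟩ := ha (m - 1) (Or.inr rfl) e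
    obtain ⟨a, ha'⟩ := h.lift m (fun n => z n - (K n).d (m - 1) m (f n)) fun n => by
      have h2 : (K n).d (m - 1) m (e n) =
          (K n).d (m - 1) m (f n) - (K n).d (m - 1) m ((t n).f (m - 1) (f (n + 1))) := by
        rw [← map_sub]; exact congrArg _ (congrFun hf n).symm
      rw [he] at h2
      rw [map_sub, ← comm_apply (t n) (m - 1) m (f (n + 1))]
      rw [← sub_eq_zero] at h2 ⊢
      rw [← neg_eq_zero, ← h2]
      abel
    have hzero : L.d m (m + 1) a = 0 := h.ext (m + 1) _ _ fun n => by
      rw [← comm_apply, ha', map_sub, hz, d_d_apply, sub_zero, map_zero]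
    refine ⟨cls L m a hzero, ?_⟩
    rw [map_cls (p n₀) a hzero (map_cycle (p n₀) hzero), ← hc₀, ← hzc n₀, ← sub_eq_zero,
      ← cls_sub (K n₀) m _ _ (map_cycle (p n₀) hzero) (hz n₀) (by rw [map_sub, hz, map_cycle (p n₀) hzero, sub_zero]),
      cls_eq_zero_iff]
    exact ⟨-f n₀, by rw [map_neg, ha']; abel⟩

end Groth.Agent.LimCx
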