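import Groth.Agent.LimCx.Milnor
import Groth.Agent.SiteBase.DLim.Top
import Mathlib.Algebra.Homology.HomologicalComplexLimits
import Mathlib.CategoryTheory.Sites.LeftExact
import Mathlib.CategoryTheory.Sites.Abelian
import Mathlib.Algebra.Category.Grp.Limits

/-!
# Cohomology sheaves of the limit of a tower of complexes of sheaves
-/

universe u

open CategoryTheory CategoryTheory.Limits Opposite

noncomputable section

set_option autoImplicit false
set_option maxHeartbeats 400000
set_option synthInstance.maxHeartbeats 100000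
set_option backward.isDefEq.respectTransparency false

namespace Groth.Agent.LimCx

/-- A morphism of complexes in the target of a retraction by an exact functor is bijective on homology
when its image in the source is inverted by that functor on homology. -/
theorem isIso_homologyMap_of_retract {P S : Type*} [Category P] [Category S] [Abelian P] [Abelian S]
    (a : P ⥤ S) [a.Additive] [a.PreservesHomology] (i : S ⥤ P) [i.Additive] (ε : i ⋙ a ≅ 𝟭 S)
    {K L : CochainComplex S ℤ} (g : K ⟶ L) (m : ℤ)
    (h : IsIso (a.map (HomologicalComplex.homologyMap ((i.mapHomologicalComplex _).map g) m))) :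
    IsIso (HomologicalComplex.homologyMap g m) := by
  let g' := (a.mapHomologicalComplex (ComplexShape.up ℤ)).map ((i.mapHomologicalComplex _).map g)
  have h1 : IsIso (HomologicalComplex.homologyMap g' m) := by
    have e := ShortComplex.mapHomologyIso_hom_naturality
      ((HomologicalComplex.shortComplexFunctor P (ComplexShape.up ℤ) m).map ((i.mapHomologicalComplex _).map g)) a
    rw [show HomologicalComplex.homologyMap g' m =
      ((((i.mapHomologicalComplex _).obj K).sc m).mapHomologyIso a).hom ≫
        a.map (HomologicalComplex.homologyMap ((i.mapHomologicalComplex _).map g) m) ≫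
        ((((i.mapHomologicalComplex _).obj L).sc m).mapHomologyIso a).inv from
      ((Iso.eq_comp_inv _).2 e).trans (Category.assoc _ _ _)]
    exact IsIso.comp_isIso' (Iso.isIso_hom _) (IsIso.comp_isIso' h (Iso.isIso_inv _))
  let eK : ((a.mapHomologicalComplex _).obj ((i.mapHomologicalComplex (ComplexShape.up ℤ)).obj K)) ≅ K :=
    HomologicalComplex.Hom.isoOfComponents (fun j => ε.app (K.X j))
      (fun j k _ => (ε.hom.naturality (K.d j k)).symm)
  let eL : ((a.mapHomologicalComplex _).obj ((i.mapHomologicalComplex (ComplexShape.up ℤ)).obj L)) ≅ L :=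
    HomologicalComplex.Hom.isoOfComponents (fun j => ε.app (L.X j))
      (fun j k _ => (ε.hom.naturality (L.d j k)).symm)
  have hg : g = eK.inv ≫ g' ≫ eL.hom := by
    rw [Iso.eq_inv_comp]
    ext j
    exact (ε.hom.naturality (g.f j)).symm
  rw [hg, HomologicalComplex.homologyMap_comp, HomologicalComplex.homologyMap_comp]
  have hK : IsIso (HomologicalComplex.homologyMap eK.inv m) :=
    inferInstanceAs (IsIso ((HomologicalComplex.homologyFunctor S _ m).map eK.inv))
  have hL : IsIso (HomologicalComplex.homologyMap eL.hom m) :=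
    inferInstanceAs (IsIso ((HomologicalComplex.homologyFunctor S _ m).map eL.hom))
  exact IsIso.comp_isIso' hK (IsIso.comp_isIso' h1 hL)

variable {C : Type u} [SmallCategory C] {J : GrothendieckTopology C}

/-- Bijectivity on homology of sections over a covering class suffices. -/
theorem isIso_homologyMap_of_sections {K L : CochainComplex (Sheaf J AddCommGrpCat.{u}) ℤ} (g : K ⟶ L)
    (m : ℤ) {B : Set C} (hB : DLim.IsCoveredBy J B)
    (h : ∀ U ∈ B, IsIso (HomologicalComplex.homologyMap ((CohCx.sectCx J U).map g) m)) :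
    IsIso (HomologicalComplex.homologyMap g m) := by
  refine @isIso_homologyMap_of_retract (Cᵒᵖ ⥤ AddCommGrpCat.{u}) (Sheaf J AddCommGrpCat.{u}) _ _ _ _
    (presheafToSheaf J AddCommGrpCat.{u}) _ inferInstance (sheafToPresheaf J AddCommGrpCat.{u}) _
    (sheafificationNatIso J AddCommGrpCat.{u}).symm K L g m ?_
  let gP := ((sheafToPresheaf J AddCommGrpCat.{u}).mapHomologicalComplex (ComplexShape.up ℤ)).map g
  let φ := HomologicalComplex.homologyMap gP m
  have hb : ∀ U ∈ B, Function.Bijective (φ.app (op U)) := fun U hU => by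
    have e := ShortComplex.mapHomologyIso_hom_naturality
      ((HomologicalComplex.shortComplexFunctor _ (ComplexShape.up ℤ) m).map gP)
      ((evaluation Cᵒᵖ AddCommGrpCat.{u}).obj (op U))
    have hU' : IsIso (HomologicalComplex.homologyMap ((CohCx.sectCx J U).map g) m) := h U hU
    have : IsIso (φ.app (op U)) := by
      rw [show φ.app (op U) =
        (ShortComplex.mapHomologyIso ((((sheafToPresheaf J AddCommGrpCat.{u}).mapHomologicalComplex _).obj K).sc m)
          ((evaluation Cᵒᵖ AddCommGrpCat.{u}).obj (op U))).inv ≫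
        HomologicalComplex.homologyMap ((CohCx.sectCx J U).map g) m ≫
        (ShortComplex.mapHomologyIso ((((sheafToPresheaf J AddCommGrpCat.{u}).mapHomologicalComplex _).obj L).sc m)
          ((evaluation Cᵒᵖ AddCommGrpCat.{u}).obj (op U))).hom from
        ((Iso.inv_comp_eq _).2 e).symm]
      exact IsIso.comp_isIso' (Iso.isIso_inv _) (IsIso.comp_isIso' hU' (Iso.isIso_hom _))
    exact (ConcreteCategory.isIso_iff_bijective _).1 this
  have hi : Presheaf.IsLocallyInjective J φ := by
    constructor
    intro X x y hxy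
    obtain ⟨ι, Y, f, hf, hY⟩ := hB X.unop
    refine J.superset_covering ?_ hf
    rintro Z k ⟨Z', a, b, ⟨i⟩, rfl⟩
    refine Presheaf.equalizerSieve x y |>.downward_closed ?_ a
    refine (hb _ (hY i)).1 ?_
    exact (ConcreteCategory.congr_hom (φ.naturality (f i).op) x).trans
      ((congrArg (((((sheafToPresheaf J AddCommGrpCat.{u}).mapHomologicalComplex (ComplexShape.up ℤ)).obj L).homology m).map (f i).op) hxy).trans
        (ConcreteCategory.congr_hom (φ.naturality (f i).op) y).symm)
  have hs : Presheaf.IsLocallySurjective J φ := by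
    constructor
    intro U s
    obtain ⟨ι, Y, f, hf, hY⟩ := hB U
    refine J.superset_covering ?_ hf
    rintro Z k ⟨Z', a, b, ⟨i⟩, rfl⟩
    refine Presheaf.imageSieve φ s |>.downward_closed ?_ a
    exact (hb _ (hY i)).2 _
  exact (GrothendieckTopology.W_iff J φ).1 ((J.W_iff_isLocallyBijective φ).2 ⟨hi, hs⟩)

/-- Sections of the limit of a tower of complexes. -/
theorem isTermwiseLimit (F : ℕ → CochainComplex (Sheaf J AddCommGrpCat.{u}) ℤ) (t : ∀ n, F (n + 1) ⟶ F n)
    (U : C) :
    IsTermwiseLimit (L := (CohCx.sectCx J U).obj (limit (CohCx.opSequence F t)))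
      (K := fun n => (CohCx.sectCx J U).obj (F n))
      (fun n => (CohCx.sectCx J U).map (limit.π (CohCx.opSequence F t) (op n)))
      (fun n => (CohCx.sectCx J U).map (t n)) := by
  let G : ℤ → (CochainComplex (Sheaf J AddCommGrpCat.{u}) ℤ ⥤ AddCommGrpCat.{u}) := fun j =>
    HomologicalComplex.eval _ _ j ⋙ sheafToPresheaf J AddCommGrpCat.{u} ⋙
      (evaluation Cᵒᵖ AddCommGrpCat.{u}).obj (op U)
  have hlim : ∀ j, IsLimit ((G j).mapCone (limit.cone (CohCx.opSequence F t))) := fun j =>
    have : PreservesLimit (CohCx.opSequence F t) (G j) := by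
      change PreservesLimit (CohCx.opSequence F t) (HomologicalComplex.eval _ _ j ⋙
        sheafToPresheaf J AddCommGrpCat.{u} ⋙ (evaluation Cᵒᵖ AddCommGrpCat.{u}).obj (op U))
      infer_instance
    isLimitOfPreserves (G j) (limit.isLimit _)
  have hmap : ∀ n, (CohCx.opSequence F t).map (homOfLE (Nat.le_add_right n 1)).op = t n :=
    Functor.ofOpSequence_map_homOfLE_succ t
  refine ⟨fun n => ?_, fun j a b hab => ?_, fun j x hx => ?_⟩
  · rw [← Functor.map_comp, ← hmap n]
    exact congrArg _ (limit.w (CohCx.opSequence F t) (homOfLE (Nat.le_add_right n 1)).op)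
  · exact (Types.isLimit_iff_bijective_sectionOfCone _).1
      ⟨isLimitOfPreserves (forget AddCommGrpCat.{u}) (hlim j)⟩ |>.1 (Subtype.ext (funext fun n => hab n.unop))
  · let s : ((CohCx.opSequence F t ⋙ G j) ⋙ forget AddCommGrpCat.{u}).sections := ⟨fun n => x n.unop, by
      suffices H : ∀ (k n : ℕ) (e : n ≤ n + k),
          (G j).map ((CohCx.opSequence F t).map (homOfLE e).op) (x (n + k)) = x n by
        intro a b φ
        obtain ⟨k, hk⟩ := Nat.exists_eq_add_of_le (leOfHom φ.unop)
        obtain ⟨a⟩ := a
        obtain ⟨b⟩ := b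
        subst hk
        exact H k b _
      intro k
      induction k with
      | zero =>
        intro n e
        exact ConcreteCategory.congr_hom ((congrArg (G j).map ((CohCx.opSequence F t).map_id (op n))).trans
          ((G j).map_id _)) (x n)
      | succ k ih =>
        intro n e
        refine (ConcreteCategory.congr_hom ((congrArg (G j).map (((CohCx.opSequence F t).map_comp
          (homOfLE (Nat.le_add_right (n + k) 1)).op (homOfLE (Nat.le_add_right n k)).op).trans
            (congrArg (fun φ => φ ≫ _) (hmap (n + k))))).trans ((G j).map_comp _ _)) _).trans ?_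
        exact (congrArg _ (hx (n + k))).trans (ih n _)⟩
    obtain ⟨a, ha⟩ := ((Types.isLimit_iff_bijective_sectionOfCone _).1
      ⟨isLimitOfPreserves (forget AddCommGrpCat.{u}) (hlim j)⟩).2 s
    exact ⟨a, fun n => congrFun (congrArg Subtype.val ha) (op n)⟩

theorem isIso_homologyMap_limit_π (F : ℕ → CochainComplex (Sheaf J AddCommGrpCat.{u}) ℤ)
    (t : ∀ n, F (n + 1) ⟶ F n) (m : ℤ) {B : Set C} (hB : DLim.IsCoveredBy J B) (n₀ : ℕ)
    (ha : ∀ U ∈ B, ∀ j : ℤ, (j = m - 2 ∨ j = m - 1) →
      CohCx.LimOneIsZero (fun n => ((F n).X j).obj.obj (op U)) (fun n => (((t n).f j).hom.app (op U)).hom))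
    (hb : ∀ U ∈ B, CohCx.LimOneIsZero
      (fun n => ((CohCx.sectCx J U).obj (F n)).homology (m - 1))
      (fun n => (HomologicalComplex.homologyMap ((CohCx.sectCx J U).map (t n)) (m - 1)).hom))
    (hc : ∀ U ∈ B, ∀ k : ℕ, IsIso (HomologicalComplex.homologyMap
      ((CohCx.sectCx J U).map (CohCx.transition F t n₀ k)) m)) :
    IsIso (HomologicalComplex.homologyMap (limit.π (CohCx.opSequence F t) (op n₀)) m) := by
  refine isIso_homologyMap_of_sections _ m hB fun U hU => (ConcreteCategory.isIso_iff_bijective _).2 ?_
  have htr : ∀ k, CohCx.transition (fun n => (CohCx.sectCx J U).obj (F n))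
      (fun n => (CohCx.sectCx J U).map (t n)) n₀ k = (CohCx.sectCx J U).map (CohCx.transition F t n₀ k) := by
    intro k
    induction k with
    | zero => exact ((CohCx.sectCx J U).map_id _).symm
    | succ k ih =>
      show (CohCx.sectCx J U).map (t (n₀ + k)) ≫ CohCx.transition (fun n => (CohCx.sectCx J U).obj (F n))
        (fun n => (CohCx.sectCx J U).map (t n)) n₀ k = _
      rw [ih, ← Functor.map_comp]
      rfl
  exact bijective_homologyMap (isTermwiseLimit F t U) m n₀ (ha U hU) (hb U hU) fun k =>
    (ConcreteCategory.isIso_iff_bijective _).1 (by rw [htr]; exact hc U hU k)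

end Groth.Agent.LimCx
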